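import Groth.Agent.SchTorsor.Props
import Groth.Agent.FpqcDescLib.Closed
import Groth.Agent.MultTypeLib.GenMultType
import Groth.Prelude.Def_Red

/-! A torus is smooth. -/

set_option backward.isDefEq.respectTransparency.types false
set_option linter.style.haveILetI false
set_option autoImplicit false

universe u

open CategoryTheory Limits AlgebraicGeometry

namespace Groth.Agent.FixTorus

/-- Points of a group algebra of a free abelian group lift along nilpotent thickenings. -/
theorem formallySmooth_freeGroupAlgebra (R : Type u) [CommRing R] (r : ℕ) :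
    Algebra.FormallySmooth R (MonoidAlgebra R (Multiplicative (Fin r → ℤ))) := by
  refine Algebra.FormallySmooth.of_comp_surjective fun B _ _ I hI f => ?_
  have hnil : IsNilpotent I := ⟨2, hI⟩
  have hlift : ∀ j : Fin r, ∃ u : Bˣ, Ideal.Quotient.mk I (u : B) =
      f (MonoidAlgebra.of R _ (Multiplicative.ofAdd (Pi.single j (1 : ℤ)))) := by
    intro j
    obtain ⟨b, hb⟩ := Ideal.Quotient.mk_surjective
      (f (MonoidAlgebra.of R _ (Multiplicative.ofAdd (Pi.single j (1 : ℤ)))))
    have hu : IsUnit (Ideal.Quotient.mk I b) := by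
      rw [hb]
      exact (((Group.isUnit (Multiplicative.ofAdd (Pi.single j (1 : ℤ) : Fin r → ℤ))).map (MonoidAlgebra.of R _)).map f :)
    exact ⟨(((IsNilpotent.isUnit_quotient_mk_iff hnil).mp hu)).unit, hb⟩
  choose u hu using hlift
  let χ : Multiplicative (Fin r → ℤ) →* B :=
    { toFun := fun n => ((∏ j, u j ^ (Multiplicative.toAdd n j) : Bˣ) : B)
      map_one' := by simp
      map_mul' := fun a b => by
        rw [← Units.val_mul, ← Finset.prod_mul_distrib]
        simp [zpow_add] }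
  refine ⟨MonoidAlgebra.lift R B _ χ, MonoidAlgebra.algHom_ext (fun n => ?_) (by ext)⟩
  let g₁ : Multiplicative (Fin r → ℤ) →* (B ⧸ I)ˣ :=
    (((Ideal.Quotient.mk I : B →* B ⧸ I)).comp χ).toHomUnits
  let g₂ : Multiplicative (Fin r → ℤ) →* (B ⧸ I)ˣ :=
    ((f : _ →* B ⧸ I).comp (MonoidAlgebra.of R _)).toHomUnits
  have h : g₁ = g₂ := by
    apply MonoidHom.toAdditiveRight.injective
    apply AddMonoidHom.toIntLinearMap_injective
    refine (Pi.basisFun ℤ (Fin r)).ext fun j => ?_
    rw [Pi.basisFun_apply]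
    apply Units.ext
    show Ideal.Quotient.mk I (χ (Multiplicative.ofAdd (Pi.single j (1 : ℤ)))) =
      f (MonoidAlgebra.of R _ (Multiplicative.ofAdd (Pi.single j (1 : ℤ))))
    rw [← hu j]
    congr 1
    show ((∏ i, u i ^ ((Pi.single j (1 : ℤ) : Fin r → ℤ) i) : Bˣ) : B) = u j
    rw [Finset.prod_eq_single j (fun i _ hi => by rw [Pi.single_eq_of_ne hi, zpow_zero]) (by simp)]
    rw [Pi.single_eq_same, zpow_one]
  have h1 := congrArg Units.val (DFunLike.congr_fun h n)
  simp only [AlgHom.comp_apply, MonoidAlgebra.lift_single, one_smul]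
  exact h1

/-- The split torus is smooth. -/
theorem smooth_DS (S : Scheme.{u}) (r : ℕ) : Smooth (Red.DS S (Fin r → ℤ)).hom := by
  haveI := formallySmooth_freeGroupAlgebra (ULift.{u} ℤ) r
  haveI : IsNoetherianRing (ULift.{u} ℤ) := isNoetherianRing_of_ringEquiv ℤ ULift.ringEquiv.symm
  haveI : Algebra.Smooth (ULift.{u} ℤ) (MonoidAlgebra (ULift.{u} ℤ) (Multiplicative (Fin r → ℤ))) :=
    ⟨inferInstance, Algebra.FinitePresentation.of_finiteType.mp inferInstance⟩
  haveI : Smooth (Red.diag (ULift.{u} ℤ) (Fin r → ℤ)).hom :=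
    (HasRingHomProperty.Spec_iff (P := @Smooth)).mpr (RingHom.smooth_algebraMap.mpr inferInstance)
  exact inferInstanceAs (Smooth (pullback.snd (Red.diag (ULift.{u} ℤ) (Fin r → ℤ)).hom _))

/-- A torus is smooth. -/
theorem smooth_of_isTorus {S : Scheme.{u}} {T : Over S} [GrpObj T] (hT : Red.IsTorus T) : Smooth T.hom := by
  obtain ⟨S', f, hflat, hsurj, hqc, hloc⟩ := hT
  have hcov : FpqcDescLib.Covers f :=
    FpqcDescLib.covers_of_hcov f ⟨S', f, 𝟙 _, Category.id_comp _, hsurj, hflat, hqc⟩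
  refine hcov.descends @Smooth T.hom (pullback.snd T.hom f) (pullback.fst T.hom f)
    (IsPullback.of_hasPullback T.hom f).flip ?_
  refine IsZariskiLocalAtTarget.of_forall_exists_morphismRestrict fun s' => ?_
  obtain ⟨U, hU, r, ⟨e⟩⟩ := hloc s'
  refine ⟨U, hU, ?_⟩
  haveI := smooth_DS (U : Scheme.{u}) r
  let k : Red.bc (U.ι ≫ f) T ⟶ Red.DS (U : Scheme.{u}) (Fin r → ℤ) := e.hom.hom.hom
  haveI : IsIso k.left :=
    ⟨e.inv.hom.hom.left, congrArg (fun h => h.hom.hom.left) e.hom_inv_id,
      congrArg (fun h => h.hom.hom.left) e.inv_hom_id⟩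
  haveI : Smooth (pullback.snd T.hom (U.ι ≫ f)) := by
    show Smooth (Red.bc (U.ι ≫ f) T).hom
    rw [← Over.w k]; infer_instance
  have H1 : IsPullback ((pullback.snd T.hom f ⁻¹ᵁ U).ι ≫ pullback.fst T.hom f) (pullback.snd T.hom f ∣_ U) T.hom
      (U.ι ≫ f) :=
    (isPullback_morphismRestrict _ U).flip.paste_horiz (IsPullback.of_hasPullback T.hom f)
  rw [← H1.isoPullback_hom_snd]
  infer_instance

end Groth.Agent.FixTorus
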