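import Mathlib
import Groth.Prelude.Def_AlgGrp

/-! The semidirect product of a group scheme by a group scheme acting on it by automorphisms. -/

set_option autoImplicit false

universe u

open CategoryTheory MonoidalCategory CartesianMonoidalCategory MonObj AlgebraicGeometry

namespace Groth.Agent.FixTorus

/-- The bijection of a representation by a functor to groups respects products. -/
theorem homEquiv_mul {C : Type*} [Category.{u} C] [CartesianMonoidalCategory C] {X : C} (F : Cᵒᵖ ⥤ GrpCat.{u})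
    (r : (F ⋙ forget _).RepresentableBy X) {Y : C} (x y : Y ⟶ X) :
    letI := GrpObj.ofRepresentableBy X F r
    (r.homEquiv (x * y) : F.obj (Opposite.op Y)) = (r.homEquiv x : F.obj (Opposite.op Y)) * r.homEquiv y := by
  letI := GrpObj.ofRepresentableBy X F r
  exact ((yonedaMonObjIsoOfRepresentableBy X (F ⋙ forget₂ GrpCat MonCat) r).hom.app (Opposite.op Y)).hom.map_mul x y

variable {S : Scheme.{u}} {Q H : Over S} [GrpObj Q] [GrpObj H] (a : AlgGrp.Action Q H)

theorem lift_one_act {X : Over S} (h : X ⟶ H) : lift 1 h ≫ a.act = h := by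
  have := congrArg (fun m => lift (toUnit X) h ≫ m) a.one_act
  simpa [lift_whiskerRight_assoc, Hom.one_def, lift_leftUnitor_hom] using this

theorem lift_mul_act {X : Over S} (q q' : X ⟶ Q) (h : X ⟶ H) :
    lift (q * q') h ≫ a.act = lift q (lift q' h ≫ a.act) ≫ a.act := by
  have := congrArg (fun m => lift (lift q q') h ≫ m) a.mul_act
  simpa [lift_whiskerRight_assoc, Hom.mul_def, lift_lift_associator_hom_assoc, lift_whiskerLeft_assoc] using this

variable (hmul : ∀ (X : Over S) (q : X ⟶ Q) (h h' : X ⟶ H),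
  lift q (h * h') ≫ a.act = (lift q h ≫ a.act) * (lift q h' ≫ a.act))

/-- The action of the points of `Q` on the points of `H`. -/
noncomputable def ptsAut (X : Over S) : (X ⟶ Q) →* MulAut (X ⟶ H) where
  toFun q :=
    { toFun := fun h => lift q h ≫ a.act
      invFun := fun h => lift q⁻¹ h ≫ a.act
      left_inv := fun h => by dsimp only; rw [← lift_mul_act, inv_mul_cancel, lift_one_act]
      right_inv := fun h => by dsimp only; rw [← lift_mul_act, mul_inv_cancel, lift_one_act]
      map_mul' := hmul X q }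
  map_one' := MulEquiv.ext fun h => lift_one_act a h
  map_mul' q q' := MulEquiv.ext fun h => lift_mul_act a q q' h

/-- Pullback of points of the semidirect product. -/
noncomputable def ptsMap {X Y : Over S} (f : X ⟶ Y) :
    (Y ⟶ H) ⋊[ptsAut a hmul Y] (Y ⟶ Q) →* (X ⟶ H) ⋊[ptsAut a hmul X] (X ⟶ Q) :=
  SemidirectProduct.map
    { toFun := fun h => f ≫ h, map_one' := MonObj.comp_one f, map_mul' := fun _ _ => MonObj.comp_mul _ _ _ }
    { toFun := fun h => f ≫ h, map_one' := MonObj.comp_one f, map_mul' := fun _ _ => MonObj.comp_mul _ _ _ }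
    fun q => MonoidHom.ext fun h => by
      show f ≫ lift q h ≫ a.act = lift (f ≫ q) (f ≫ h) ≫ a.act
      rw [← comp_lift, Category.assoc]

/-- The functor of points of the semidirect product. -/
noncomputable def ptsFunctor : (Over S)ᵒᵖ ⥤ GrpCat.{u} where
  obj X := GrpCat.of ((X.unop ⟶ H) ⋊[ptsAut a hmul X.unop] (X.unop ⟶ Q))
  map f := GrpCat.ofHom (ptsMap a hmul f.unop)
  map_id X := by ext <;> simp [ptsMap]
  map_comp f g := by ext <;> simp [ptsMap]

include hmul in
/-- The semidirect product, on a copy of `H ⊗ Q`. -/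
theorem exists_semidirect : ∃ (E : Over S) (_ : GrpObj E) (φ : E ≅ H ⊗ Q),
    ∀ (X : Over S) (x y : X ⟶ E),
      (x * y) ≫ φ.hom ≫ fst H Q = (x ≫ φ.hom ≫ fst H Q) *
        (lift (x ≫ φ.hom ≫ snd H Q) (y ≫ φ.hom ≫ fst H Q) ≫ a.act) ∧
      (x * y) ≫ φ.hom ≫ snd H Q = (x ≫ φ.hom ≫ snd H Q) * (y ≫ φ.hom ≫ snd H Q) := by
  obtain ⟨E, φ, -⟩ : ∃ (E : Over S) (_ : E ≅ H ⊗ Q), True := ⟨_, Iso.refl _, trivial⟩
  let r : (ptsFunctor a hmul ⋙ forget _).RepresentableBy E :=
    { homEquiv := fun {X} =>
        { toFun := fun m => (⟨m ≫ φ.hom ≫ fst H Q, m ≫ φ.hom ≫ snd H Q⟩ : (X ⟶ H) ⋊[ptsAut a hmul X] (X ⟶ Q))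
          invFun := fun p => lift (SemidirectProduct.left p) (SemidirectProduct.right p) ≫ φ.inv
          left_inv := fun m => by
            show lift (m ≫ φ.hom ≫ fst H Q) (m ≫ φ.hom ≫ snd H Q) ≫ φ.inv = m
            rw [← comp_lift, ← comp_lift, lift_fst_snd, Category.comp_id, Category.assoc, Iso.hom_inv_id, Category.comp_id]
          right_inv := fun p => SemidirectProduct.ext
            (by show (lift p.left p.right ≫ φ.inv) ≫ φ.hom ≫ fst H Q = p.left; simp)
            (by show (lift p.left p.right ≫ φ.inv) ≫ φ.hom ≫ snd H Q = p.right; simp) }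
      homEquiv_comp := fun f m => SemidirectProduct.ext (Category.assoc f m _) (Category.assoc f m _) }
  letI str : GrpObj E := GrpObj.ofRepresentableBy E (ptsFunctor a hmul) r
  refine ⟨E, str, φ, fun X x y => ?_⟩
  have key : (r.homEquiv (x * y) : (X ⟶ H) ⋊[ptsAut a hmul X] (X ⟶ Q)) = r.homEquiv x * r.homEquiv y :=
    homEquiv_mul (ptsFunctor a hmul) r x y
  exact ⟨congrArg SemidirectProduct.left key, congrArg SemidirectProduct.right key⟩

end Groth.Agent.FixTorus
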