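import Groth.Agent.GrpSchLib.AntiAffineHom
import Groth.Agent.SolvGrp.Cent
import Groth.Agent.FixTorus.Semidirect
import Groth.Agent.FixTorus.TorusSmooth
import Groth.Agent.S5442

/-! Invariants of a torus acting on a group scheme with connected fibres have connected fibres. -/

set_option backward.isDefEq.respectTransparency false
set_option backward.isDefEq.respectTransparency.types false
set_option linter.style.haveILetI false
set_option autoImplicit false

universe u

open CategoryTheory Limits MonoidalCategory CartesianMonoidalCategory MonObj AlgebraicGeometry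

namespace Groth.Agent.FixTorus

variable {S : Scheme.{u}}

/-- A connected fibre of a group scheme is geometrically connected. -/
theorem connectedSpace_geomFibre {G : Over S} [GrpObj G] (s : S)
    (h : _root_.IsConnected (G.hom.base ⁻¹' {s})) : ConnectedSpace ↥(Red.geomFibre s G).left := by
  haveI : ConnectedSpace ↥(G.hom.base ⁻¹' {s}) := isConnected_iff_connectedSpace.mp h
  haveI : ConnectedSpace ↥(G.hom.fiber s) :=
    (G.hom.fiberHomeo s).symm.surjective.connectedSpace (G.hom.fiberHomeo s).symm.continuous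
  let G₀ : Over (Spec (CommRingCat.of (S.residueField s))) := Red.bc (S.fromSpecResidueField s) G
  haveI : ConnectedSpace ↥G₀.left := ‹ConnectedSpace ↥(G.hom.fiber s)›
  let g : Spec (CommRingCat.of (AlgebraicClosure (S.residueField s))) ⟶ Spec (CommRingCat.of (S.residueField s)) :=
    Spec.map (CommRingCat.ofHom (algebraMap (S.residueField s) (AlgebraicClosure (S.residueField s))))
  haveI : ConnectedSpace ↥(Red.bc g G₀).left :=
    GrpSchLib.AntiAffine.connectedSpace_bc G₀ (algebraMap (S.residueField s) (AlgebraicClosure (S.residueField s)))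
  let e : (Red.bc g G₀).left ≅ (Red.geomFibre s G).left :=
    pullbackLeftPullbackSndIso G.hom (S.fromSpecResidueField s) g
  exact e.hom.homeomorph.surjective.connectedSpace e.hom.homeomorph.continuous

/-- A fibre is connected if the geometric fibre is. -/
theorem isConnected_preimage_of_geomFibre (X : Over S) (s : S) [ConnectedSpace ↥(Red.geomFibre s X).left] :
    _root_.IsConnected (X.hom.base ⁻¹' {s}) := by
  have h : Set.range (Limits.pullback.fst X.hom (Red.geomPt s)) = X.hom.base ⁻¹' {s} := by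
    rw [Scheme.Pullback.range_fst]
    refine congrArg _ (Set.eq_singleton_iff_nonempty_unique_mem.mpr ⟨Set.range_nonempty _, ?_⟩)
    rintro _ ⟨y, rfl⟩
    exact Scheme.fromSpecResidueField_apply s _
  rw [← h]
  haveI : ConnectedSpace ↥(pullback X.hom (Red.geomPt s)) := ‹ConnectedSpace ↥(Red.geomFibre s X).left›
  exact isConnected_range (Limits.pullback.fst X.hom (Red.geomPt s)).continuous

theorem isAffineHom_tensor {A B : Over S} [IsAffineHom A.hom] [IsAffineHom B.hom] : IsAffineHom (A ⊗ B).hom := by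
  haveI : IsAffineHom (pullback.fst A.hom B.hom) := MorphismProperty.pullback_fst (P := @IsAffineHom) _ _ ‹_›
  exact inferInstanceAs (IsAffineHom (pullback.fst A.hom B.hom ≫ A.hom))

theorem smooth_tensor {A B : Over S} [Smooth A.hom] [Smooth B.hom] : Smooth (A ⊗ B).hom :=
  inferInstanceAs (Smooth (pullback.fst A.hom B.hom ≫ A.hom))

/-- A product of schemes with connected geometric fibres over an algebraically closed field. -/
theorem connectedSpace_geomFibre_tensor {A B : Over S} [GrpObj A] [GrpObj B] [Smooth A.hom] [Smooth B.hom]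
    [IsAffineHom A.hom] [IsAffineHom B.hom] (s : S) [ConnectedSpace ↥(Red.geomFibre s A).left]
    [ConnectedSpace ↥(Red.geomFibre s B).left] : ConnectedSpace ↥(Red.geomFibre s (A ⊗ B)).left := by
  let A' := Red.geomFibre s A
  let B' := Red.geomFibre s B
  haveI : Smooth A'.hom := inferInstanceAs (Smooth (pullback.snd A.hom (Red.geomPt s)))
  haveI : Smooth B'.hom := inferInstanceAs (Smooth (pullback.snd B.hom (Red.geomPt s)))
  haveI : IsAffineHom A'.hom := inferInstanceAs (IsAffineHom (pullback.snd A.hom (Red.geomPt s)))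
  haveI : IsAffineHom B'.hom := inferInstanceAs (IsAffineHom (pullback.snd B.hom (Red.geomPt s)))
  haveI := GrpSchLib.Adjoint.geometricallyIrreducible (G := A')
  haveI := GrpSchLib.Adjoint.geometricallyIrreducible (G := B')
  haveI : IrreducibleSpace B'.left := Groth.Agent.S0348.result _ B'
  haveI : UniversallyOpen A'.hom := inferInstance
  haveI : IrreducibleSpace ↥(A' ⊗ B').left :=
    GeometricallyIrreducible.irreducibleSpace (f := Limits.pullback.snd A'.hom B'.hom)
      (Limits.pullback.snd A'.hom B'.hom).isOpenMap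
  haveI : (Over.pullback (Red.geomPt s)).IsRightAdjoint := (Over.mapPullbackAdj (Red.geomPt s)).isRightAdjoint
  haveI : ConnectedSpace ↥(A' ⊗ B').left := inferInstance
  let e := ((Over.forget _).mapIso (Functor.Monoidal.μIso (Over.pullback (Red.geomPt s)) A B)).hom
  haveI : ConnectedSpace ↥((Over.forget _).obj ((Over.pullback (Red.geomPt s)).obj A ⊗ (Over.pullback (Red.geomPt s)).obj B)) :=
    ‹ConnectedSpace ↥(A' ⊗ B').left›
  exact e.homeomorph.surjective.connectedSpace e.homeomorph.continuous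

/-- Affine case: connected fibres of the invariants. -/
theorem isConnected_fixed {Q H F : Over S} [GrpObj Q] [GrpObj H] (hQ : Red.IsTorus Q) [Smooth H.hom] [IsAffineHom H.hom]
    (a : AlgGrp.Action Q H)
    (hmul : ∀ (X : Over S) (q : X ⟶ Q) (h h' : X ⟶ H),
      lift q (h * h') ≫ a.act = (lift q h ≫ a.act) * (lift q h' ≫ a.act))
    (f : F ⟶ H) [Mono f] (hF : ∀ (X : Over S) (h : X ⟶ H), (∃ x : X ⟶ F, x ≫ f = h) ↔
      ∀ (X' : Over S) (g : X' ⟶ X) (q : X' ⟶ Q), lift q (g ≫ h) ≫ a.act = g ≫ h)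
    (s : S) (hH : _root_.IsConnected (H.hom.base ⁻¹' {s})) : _root_.IsConnected (F.hom.base ⁻¹' {s}) := by
  obtain ⟨E, instE, φ, hE⟩ := exists_semidirect a hmul
  letI := instE
  obtain ⟨pH, hpH⟩ : ∃ pH : E ⟶ H, pH = φ.hom ≫ fst H Q := ⟨_, rfl⟩
  obtain ⟨pQ, hpQ⟩ : ∃ pQ : E ⟶ Q, pQ = φ.hom ≫ snd H Q := ⟨_, rfl⟩
  simp only [← hpH, ← hpQ] at hE
  have hext : ∀ {X : Over S} (x y : X ⟶ E), x ≫ pH = y ≫ pH → x ≫ pQ = y ≫ pQ → x = y := fun x y h1 h2 => by
    rw [← cancel_mono φ.hom]
    exact CartesianMonoidalCategory.hom_ext _ _ (by simpa [hpH] using h1) (by simpa [hpQ] using h2)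
  let i : Q ⟶ E := lift 1 (𝟙 Q) ≫ φ.inv
  have hiH : i ≫ pH = 1 := by simp [i, hpH]
  have hiQ : i ≫ pQ = 𝟙 Q := by simp [i, hpQ]
  have hi1 : ∀ {X : Over S} (q : X ⟶ Q), (q ≫ i) ≫ pH = 1 := fun q => by
    rw [Category.assoc, hiH, MonObj.comp_one]
  have hi2 : ∀ {X : Over S} (q : X ⟶ Q), (q ≫ i) ≫ pQ = q := fun q => by
    rw [Category.assoc, hiQ, Category.comp_id]
  have hact1 : ∀ {X : Over S} (q : X ⟶ Q), lift q (1 : X ⟶ H) ≫ a.act = 1 := fun q =>
    (ptsAut a hmul _ q).map_one
  haveI : IsMonHom i := AGFLib.isMonHom_of_mul i fun X x y => by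
    refine hext _ _ ?_ ?_
    · rw [hi1, (hE X _ _).1, hi1, hi1, hact1, _root_.one_mul]
    · rw [hi2, (hE X _ _).2, hi2, hi2]
  haveI : IsAffineHom Q.hom := MultTypeLib.GenMultType.isAffineHom (MultTypeLib.GenMultType.of_multTypeFT (TorusQI.isMultTypeFT_of_isTorus hQ))
  haveI : Smooth Q.hom := smooth_of_isTorus hQ
  haveI : IsIso φ.hom.left := ((Over.forget _).mapIso φ).isIso_hom
  haveI := isAffineHom_tensor (A := H) (B := Q)
  haveI := smooth_tensor (A := H) (B := Q)
  haveI : IsAffineHom E.hom := by rw [← Over.w φ.hom]; infer_instance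
  haveI : Smooth E.hom := by rw [← Over.w φ.hom]; infer_instance
  obtain ⟨Z, instZ, j, hj, -, -⟩ := Groth.Agent.S5247.result Q E (TorusQI.isMultTypeFT_of_isTorus hQ) inferInstance
    inferInstance i
  letI := instZ
  haveI := hj.1
  -- the retraction `Z ⟶ F`
  obtain ⟨r, hr⟩ := (hF Z (j ≫ pH)).mpr fun X' g q => by
    have hc : ((g ≫ j) * (q ≫ i)) ≫ pH = ((q ≫ i) * (g ≫ j)) ≫ pH := by
      rw [(hj.2.2 Z j).mp ⟨𝟙 Z, Category.id_comp j⟩ X' g q]
    rw [(hE X' _ _).1, (hE X' _ _).1, hi1, hi2, hact1, _root_.mul_one, _root_.one_mul] at hc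
    simpa only [Category.assoc] using hc.symm
  -- a section
  let c : F ⟶ E := lift f 1 ≫ φ.inv
  have hcH : c ≫ pH = f := by simp [c, hpH]
  have hcQ : c ≫ pQ = 1 := by simp [c, hpQ]
  obtain ⟨w, hw⟩ := (hj.2.2 F c).mpr fun X' g q => by
    have hfix : lift q (g ≫ f) ≫ a.act = g ≫ f := (hF F f).mp ⟨𝟙 F, Category.id_comp f⟩ X' g q
    refine hext _ _ ?_ ?_
    · rw [(hE X' _ _).1, (hE X' _ _).1, hi1, hi2, hact1, _root_.mul_one, _root_.one_mul, Category.assoc g c pH,
        hcH, hfix]
    · rw [(hE X' _ _).2, (hE X' _ _).2, hi2, Category.assoc g c pQ, hcQ, MonObj.comp_one, _root_.mul_one, _root_.one_mul]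
  have hwr : w ≫ r = 𝟙 F := by
    rw [← cancel_mono f, Category.assoc, hr, ← Category.assoc, hw, hcH, Category.id_comp]
  -- connectedness
  haveI : ConnectedSpace ↥(Red.geomFibre s H).left := connectedSpace_geomFibre s hH
  haveI : ConnectedSpace ↥(Red.geomFibre s Q).left := (SolvGrp.torus_props (SolvGrp.isTorus_bc (Red.geomPt s) hQ)).2.2.1
  haveI : ConnectedSpace ↥(Red.geomFibre s E).left := by
    haveI := connectedSpace_geomFibre_tensor (A := H) (B := Q) s
    let e := ((Over.forget _).mapIso ((Over.pullback (Red.geomPt s)).mapIso φ)).inv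
    haveI : ConnectedSpace ↥((Over.forget _).obj ((Over.pullback (Red.geomPt s)).obj (H ⊗ Q))) :=
      ‹ConnectedSpace ↥(Red.geomFibre s (H ⊗ Q)).left›
    exact e.homeomorph.surjective.connectedSpace e.homeomorph.continuous
  haveI : IsAffine (Red.geomFibre s E).left := by
    haveI : IsAffineHom (Red.geomFibre s E).hom := inferInstanceAs (IsAffineHom (pullback.snd E.hom (Red.geomPt s)))
    exact isAffine_of_isAffineHom (Red.geomFibre s E).hom
  haveI : Smooth (Red.geomFibre s E).hom := inferInstanceAs (Smooth (pullback.snd E.hom (Red.geomPt s)))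
  haveI : ConnectedSpace ↥(Red.geomFibre s Z).left := SolvGrp.connectedSpace_centralizer
    (SolvGrp.isTorus_bc (Red.geomPt s) hQ) (SolvGrp.isCentralizerOf_bc (Red.geomPt s) i j hj)
  have hZc := isConnected_preimage_of_geomFibre Z s
  have himg : r.left '' (Z.hom.base ⁻¹' {s}) = F.hom.base ⁻¹' {s} := by
    apply Set.Subset.antisymm
    · rintro _ ⟨z, hz, rfl⟩
      show F.hom (r.left z) = s
      rw [← Scheme.Hom.comp_apply, Over.w r]; exact hz
    · intro x hx
      refine ⟨w.left x, ?_, ?_⟩
      · show Z.hom (w.left x) = s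
        rw [← Scheme.Hom.comp_apply, Over.w w]; exact hx
      · rw [← Scheme.Hom.comp_apply, ← Over.comp_left, hwr]; rfl
  rw [← himg]
  exact hZc.image _ r.left.continuous.continuousOn

end Groth.Agent.FixTorus
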